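import Groth.Agent.SourceDescent.Algebra
import Mathlib.RingTheory.Unramified.LocalStructure
import Mathlib.RingTheory.Smooth.Locus
import Mathlib.Algebra.Polynomial.Lifts

/-!
Finite presentation, smoothness and etaleness of `A → B` from those of `A → C` for `B → C` smooth or etale
and faithfully flat.
-/

set_option autoImplicit false
set_option backward.isDefEq.respectTransparency.types false

universe u

open TensorProduct Polynomial

namespace Groth.Agent.SourceDescent

variable (A B C : Type u) [CommRing A] [CommRing B] [CommRing C] [Algebra A B] [Algebra B C]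
  [Algebra A C] [IsScalarTower A B C]

set_option maxHeartbeats 1000000 in
-- large tensor product types
/-- Finite presentation, along smooth surjections. -/
theorem finitePresentation_of_smooth [Algebra.Smooth B C] [Module.FaithfullyFlat B C]
    [Algebra.FinitePresentation A C] : Algebra.FinitePresentation A B := by
  have := finiteType_of_smooth A B C
  obtain ⟨n, π, hπ⟩ := Algebra.FiniteType.iff_quotient_mvPolynomial''.1 this
  obtain ⟨B₀, C₀, _, _, hB₀, _, ⟨e⟩⟩ := Algebra.Smooth.exists_subalgebra_fg ℤ B C
  obtain ⟨s, hs⟩ := exists_faithfullyFlat_model B (B₀ := B₀) (C₀ := C₀) fun p => by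
    obtain ⟨c, rfl⟩ := PrimeSpectrum.comap_surjective_of_faithfullyFlat (B := C) p
    refine ⟨PrimeSpectrum.comap ((e.symm.toAlgHom.restrictScalars B₀).comp
      Algebra.TensorProduct.includeRight).toRingHom c, ?_⟩
    rw [← PrimeSpectrum.comap_comp_apply, ← PrimeSpectrum.comap_comp_apply]
    exact congrArg (fun φ => PrimeSpectrum.comap φ c)
      (((e.symm.toAlgHom.restrictScalars B₀).comp Algebra.TensorProduct.includeRight).comp_algebraMap.trans
        (IsScalarTower.algebraMap_eq B₀ B C))
  let B₁ : Subalgebra ℤ B := B₀ ⊔ Algebra.adjoin ℤ (s : Set B)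
  let : Algebra B₀ B₁ := (Subalgebra.inclusion (le_sup_left : B₀ ≤ B₁)).toRingHom.toAlgebra
  have : IsScalarTower B₀ B₁ B := .of_algebraMap_eq fun _ => rfl
  have hff : Module.FaithfullyFlat B₁ (B₁ ⊗[B₀] C₀) := hs B₁ (fun x hx =>
    ⟨⟨x, le_sup_right (a := B₀) (Algebra.subset_adjoin hx)⟩, rfl⟩) Subtype.val_injective
  have : Algebra.FiniteType ℤ B₁ := (Subalgebra.fg_iff_finiteType B₁).1
    (hB₀.sup (Subalgebra.fg_adjoin_finset _))
  have : Algebra.FinitePresentation ℤ B₁ := Algebra.FinitePresentation.of_finiteType.1 this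
  obtain ⟨m, φ, hφ, hK⟩ := this.out
  have hX : ∀ i, ∃ x, π x = (φ (.X i) : B) := fun i => hπ _
  choose x hx using hX
  let ψ : MvPolynomial (Fin m) ℤ →+* MvPolynomial (Fin n) A :=
    (MvPolynomial.aeval (R := ℤ) x).toRingHom
  have hψ : π.toRingHom.comp ψ = (algebraMap B₁ B).comp φ.toRingHom := by
    apply MvPolynomial.ringHom_ext' (RingHom.ext_int _ _)
    intro i
    simpa [ψ] using hx i
  let J : Ideal (MvPolynomial (Fin n) A) := (RingHom.ker φ.toRingHom).map ψ
  have hJ : J.FG := hK.map ψ
  have hJI : J ≤ RingHom.ker π := by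
    rw [Ideal.map_le_iff_le_comap]
    intro k hk
    show π.toRingHom (ψ k) = 0
    rw [← RingHom.comp_apply, hψ, RingHom.comp_apply, (RingHom.mem_ker).1 hk, map_zero]
  let S' := MvPolynomial (Fin n) A ⧸ J
  have : Algebra.FinitePresentation A S' := .quotient hJ
  let p : S' →ₐ[A] B := Ideal.Quotient.liftₐ J π hJI
  have hp : Function.Surjective p := fun b => by
    obtain ⟨a, ha⟩ := hπ b
    exact ⟨Ideal.Quotient.mk J a, ha⟩
  let χ : B₁ →+* S' := RingHom.liftOfSurjective φ.toRingHom hφ
    ⟨(Ideal.Quotient.mk J).comp ψ, fun k hk => by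
      rw [RingHom.mem_ker, RingHom.comp_apply, Ideal.Quotient.eq_zero_iff_mem]
      exact Ideal.mem_map_of_mem ψ hk⟩
  let : Algebra B₁ S' := χ.toAlgebra
  let : Algebra S' B := p.toRingHom.toAlgebra
  have hpχ : p.toRingHom.comp χ = algebraMap B₁ B := by
    ext b
    obtain ⟨k, rfl⟩ := hφ b
    show p (χ (φ.toRingHom k)) = _
    rw [RingHom.liftOfSurjective_comp_apply]
    exact congrArg (fun g => g k) hψ
  have : IsScalarTower B₁ S' B := .of_algebraMap_eq' hpχ.symm
  have : IsScalarTower A S' B := .of_algebraMap_eq' p.comp_algebraMap.symm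
  let C' := S' ⊗[B₁] (B₁ ⊗[B₀] C₀)
  have : Module.FaithfullyFlat S' C' := inferInstance
  have : Algebra.FinitePresentation A C' := .trans A S' C'
  let E : B ⊗[B₁] (B₁ ⊗[B₀] C₀) ≃ₐ[B] C :=
    (Algebra.TensorProduct.cancelBaseChange B₀ B₁ B B C₀).trans e.symm
  let ps : S' →ₐ[B₁] B := IsScalarTower.toAlgHom B₁ S' B
  let qm : C' →ₐ[B₁] B ⊗[B₁] (B₁ ⊗[B₀] C₀) :=
    Algebra.TensorProduct.map ps (AlgHom.id B₁ (B₁ ⊗[B₀] C₀))
  let q : C' →ₐ[A] C :=
    { toRingHom := E.toAlgHom.toRingHom.comp qm.toRingHom
      commutes' := fun a => by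
        show E (qm ((algebraMap A S' a) ⊗ₜ[B₁] 1)) = _
        have : qm ((algebraMap A S' a) ⊗ₜ[B₁] 1) = algebraMap B _ (algebraMap A B a) := by
          simp only [qm]
          erw [Algebra.TensorProduct.map_tmul, map_one]
          rw [Algebra.TensorProduct.algebraMap_apply, Algebra.algebraMap_self, RingHom.id_apply,
            IsScalarTower.algebraMap_apply A S' B]
          rfl
        rw [this, E.commutes, ← IsScalarTower.algebraMap_apply] }
  have hq : Function.Surjective q :=
    E.surjective.comp (TensorProduct.map_surjective hp fun z => ⟨z, rfl⟩)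
  have hker : RingHom.ker q.toRingHom = (RingHom.ker ps).map (Algebra.TensorProduct.includeLeft : S' →ₐ[B₁] S' ⊗[B₁] (B₁ ⊗[B₀] C₀)) := by
    rw [← Algebra.TensorProduct.rTensor_ker ps hp]
    ext z
    simp only [RingHom.mem_ker]
    exact ⟨fun h => E.injective (h.trans (map_zero E).symm),
      fun h => (congrArg E h).trans (map_zero E)⟩
  have : Module.FaithfullyFlat S' C' := inferInstance
  have hfg : (RingHom.ker ps).FG := by
    refine Ideal.FG.of_FG_map_of_faithfullyFlat (S := S' ⊗[B₁] (B₁ ⊗[B₀] C₀)) ?_
    have hfg' := Algebra.FinitePresentation.ker_fG_of_surjective (R := A) (A := C') (B := C) q hq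
    rw [hker] at hfg'
    exact hfg'
  exact .of_surjective (f := IsScalarTower.toAlgHom A S' B) hp hfg

set_option maxHeartbeats 800000 in
-- large tensor product types
/-- Base change of the first cotangent homology along maps with a flat formally smooth lift. -/
theorem subsingleton_tensor_h1_of_lift (T : Type u) [CommRing T] [Algebra B T] [Algebra A T]
    [IsScalarTower A B T] [Algebra.FormallySmooth A T] [Module.Flat B T] (L : Type u) [CommRing L]
    [Algebra (Algebra.Generators.self A B).toExtension.Ring L] [Algebra A L]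
    [IsScalarTower A (Algebra.Generators.self A B).toExtension.Ring L] [Algebra.FormallySmooth A L]
    [Module.Flat (Algebra.Generators.self A B).toExtension.Ring L]
    (φ : B ⊗[(Algebra.Generators.self A B).toExtension.Ring] L ≃ₐ[B] T) :
    Subsingleton (T ⊗[B] Algebra.H1Cotangent A B) := by
  let P : Algebra.Extension A B := (Algebra.Generators.self A B).toExtension
  let π := algebraMap P.Ring B
  have hπ : Function.Surjective π := P.algebraMap_surjective
  let : Algebra P.Ring T := ((algebraMap B T).comp π).toAlgebra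
  have : IsScalarTower P.Ring B T := .of_algebraMap_eq' rfl
  have : IsScalarTower A P.Ring T := .of_algebraMap_eq' (by
    rw [RingHom.algebraMap_toAlgebra, RingHom.comp_assoc, ← IsScalarTower.algebraMap_eq,
      ← IsScalarTower.algebraMap_eq])
  let fQ : L →ₐ[P.Ring] T := (φ.toAlgHom.restrictScalars P.Ring).comp Algebra.TensorProduct.includeRight
  have hfQ : Function.Surjective fQ := by
    intro t
    obtain ⟨z, rfl⟩ := φ.surjective t
    induction z with
    | zero => exact ⟨0, by simp⟩
    | add x y hx hy =>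
      obtain ⟨a, ha⟩ := hx; obtain ⟨b, hb⟩ := hy
      exact ⟨a + b, by rw [map_add, map_add, ha, hb]⟩
    | tmul b z =>
      obtain ⟨c, rfl⟩ := hπ b
      refine ⟨c • z, ?_⟩
      show φ ((1 : B) ⊗ₜ (c • z)) = φ (π c ⊗ₜ z)
      rw [TensorProduct.tmul_smul, TensorProduct.smul_tmul', Algebra.smul_def, mul_one]
  let Q : Algebra.Extension A T := .ofSurjective (fQ.restrictScalars A) hfQ
  have : Algebra.FormallySmooth A Q.Ring := inferInstanceAs (Algebra.FormallySmooth A L)
  let : Algebra P.Ring Q.Ring := (inferInstance : Algebra P.Ring L)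
  let f : P.Hom Q :=
    { toRingHom := algebraMap P.Ring L
      toRingHom_algebraMap := fun a => (IsScalarTower.algebraMap_apply A P.Ring L a).symm
      algebraMap_toRingHom := fun x => fQ.commutes x }
  have H₂ : Function.Bijective ((f.mapKer (alg := inferInstance) rfl).liftBaseChange Q.Ring) := by
    let l : L ⊗[P.Ring] P.ker →ₗ[P.Ring] L :=
      (TensorProduct.rid P.Ring L).toLinearMap ∘ₗ (P.ker.subtype.lTensor L)
    have hl : ∀ z, Subtype.val (((f.mapKer (alg := inferInstance) rfl).liftBaseChange Q.Ring) z) = l z := by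
      intro z
      induction z using TensorProduct.induction_on with
      | zero => simp [l]; rfl
      | add x y hx hy =>
        simp only [map_add, Submodule.coe_add]
        exact (congrArg₂ (· + ·) hx hy).trans (l.map_add x y).symm
      | tmul a b =>
        rw [LinearMap.liftBaseChange_tmul]
        let a' : L := a
        show a' * algebraMap P.Ring L b.1 = b.1 • a'
        rw [Algebra.smul_def, mul_comm]
    have hlinj : Function.Injective l := (TensorProduct.rid P.Ring L).injective.comp
      (Module.Flat.lTensor_preserves_injective_linearMap (M := L) P.ker.subtype Subtype.val_injective)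
    refine ⟨fun z w h => hlinj (by rw [← hl, ← hl, h]), fun y => ?_⟩
    let y' : L := y.1
    have hy : fQ y' = 0 := y.2
    have hex : Function.Exact P.ker.subtype (Algebra.linearMap P.Ring B) :=
      LinearMap.exact_subtype_ker_map (Algebra.linearMap P.Ring B)
    have h1 : φ ((1 : B) ⊗ₜ[P.Ring] y') = 0 := hy
    have h2 : y' ⊗ₜ[P.Ring] (1 : B) = 0 := by
      rw [← (TensorProduct.comm P.Ring L B).map_eq_zero_iff]
      exact φ.injective (h1.trans (map_zero φ).symm)
    obtain ⟨w, hw⟩ := (lTensor_exact L hex hπ (y' ⊗ₜ[P.Ring] (1 : P.Ring))).1 (by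
      rw [LinearMap.lTensor_tmul]
      show y' ⊗ₜ[P.Ring] π 1 = 0
      rw [map_one]; exact h2)
    refine ⟨w, Subtype.ext ((hl w).trans ?_)⟩
    simp [l, hw]
    rfl
  have : Subsingleton Q.H1Cotangent :=
    (Algebra.Extension.equivH1CotangentOfFormallySmooth Q).subsingleton
  let e := Algebra.Extension.tensorCotangent f (alg := inferInstance) rfl H₂
  have : Subsingleton (T ⊗[B] P.H1Cotangent) := by
    refine subsingleton_of_forall_eq 0 fun z => ?_
    apply Module.Flat.lTensor_preserves_injective_linearMap (M := T) Algebra.Extension.h1Cotangentι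
      Algebra.Extension.h1Cotangentι_injective
    rw [map_zero]
    apply e.injective
    rw [map_zero]
    show ((Algebra.Extension.Cotangent.map f).liftBaseChange T ∘ₗ
      Algebra.Extension.h1Cotangentι.baseChange T) z = 0
    have hc : (Algebra.Extension.Cotangent.map f).liftBaseChange T ∘ₗ
        Algebra.Extension.h1Cotangentι.baseChange T =
        Algebra.Extension.h1Cotangentι ∘ₗ (Algebra.Extension.H1Cotangent.map f).liftBaseChange T := by
      ext x
      simp
    rw [hc, LinearMap.comp_apply, Subsingleton.elim ((Algebra.Extension.H1Cotangent.map f).liftBaseChange T z) 0,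
      map_zero]
  exact this

set_option maxHeartbeats 800000 in
-- large tensor product types
/-- Base change of the first cotangent homology along maps that are standard etale over a polynomial algebra. -/
theorem subsingleton_tensor_h1Cotangent (n : ℕ) (T : Type u) [CommRing T] [Algebra B T] [Algebra A T]
    [IsScalarTower A B T] [Algebra (MvPolynomial (Fin n) B) T] [IsScalarTower B (MvPolynomial (Fin n) B) T]
    (pp : StandardEtalePresentation (MvPolynomial (Fin n) B) T) [Algebra.FormallySmooth A T] [Module.Flat B T] :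
    Subsingleton (T ⊗[B] Algebra.H1Cotangent A B) := by
  let P : Algebra.Extension A B := (Algebra.Generators.self A B).toExtension
  have : Algebra.FormallySmooth A P.Ring := inferInstanceAs (Algebra.FormallySmooth A (MvPolynomial B A))
  let S' := MvPolynomial (Fin n) P.Ring
  let B' := MvPolynomial (Fin n) B
  let π : S' →+* B' := MvPolynomial.map (algebraMap P.Ring B)
  have hπ : Function.Surjective π := MvPolynomial.map_surjective _ P.algebraMap_surjective
  obtain ⟨F, hF, -, hFm⟩ := lifts_and_natDegree_eq_and_monic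
    ((lifts_iff_coeff_lifts (f := π) pp.f).2 fun k => hπ _) pp.monic_f
  obtain ⟨G, hG⟩ := Polynomial.map_surjective π hπ pp.g
  let : Algebra S' B' := π.toAlgebra
  let L : StandardEtalePair S' := ⟨F, hFm, G * derivative F, G, 0, 1, by ring⟩
  let : Algebra S' T := ((algebraMap B' T).comp π).toAlgebra
  have : IsScalarTower S' B' T := .of_algebraMap_eq' rfl
  let : Algebra P.Ring T := ((algebraMap B T).comp (algebraMap P.Ring B)).toAlgebra
  have : IsScalarTower P.Ring B T := .of_algebraMap_eq' rfl
  have : IsScalarTower P.Ring S' T := .of_algebraMap_eq fun x => by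
    show algebraMap B T (algebraMap P.Ring B x) = algebraMap B' T (π (MvPolynomial.C x))
    rw [MvPolynomial.map_C, IsScalarTower.algebraMap_apply B B' T]
    rfl
  have hF' : ∀ {R : Type u} [CommRing R] [Algebra B' R] [Algebra S' R] [IsScalarTower S' B' R] (r : R),
      aeval r F = aeval r pp.f ∧ aeval r G = aeval r pp.g := fun r =>
    ⟨by rw [← hF]; exact (aeval_map_algebraMap (R := S') B' r F).symm,
      by rw [← hG]; exact (aeval_map_algebraMap (R := S') B' r G).symm⟩
  have hmap : L.HasMap pp.x := ⟨(hF' (R := T) pp.x).1.trans pp.hasMap.1, by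
    show IsUnit (aeval pp.x (G * derivative F))
    rw [map_mul, (hF' (R := T) pp.x).2]
    refine pp.hasMap.2.mul ?_
    rw [← aeval_map_algebraMap (R := S') B' pp.x (derivative F), RingHom.algebraMap_toAlgebra,
      ← derivative_map, hF]
    exact pp.hasMap.isUnit_derivative_f⟩
  let fQ : L.Ring →ₐ[S'] T := L.lift pp.x hmap
  let : Algebra P.Ring L.Ring := ((algebraMap S' L.Ring).comp (algebraMap P.Ring S')).toAlgebra
  have : IsScalarTower P.Ring S' L.Ring := .of_algebraMap_eq' rfl
  let : Algebra A L.Ring := ((algebraMap P.Ring L.Ring).comp (algebraMap A P.Ring)).toAlgebra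
  have : IsScalarTower A P.Ring L.Ring := .of_algebraMap_eq' rfl
  have : Algebra.FormallySmooth P.Ring L.Ring := .comp P.Ring S' L.Ring
  have : Algebra.FormallySmooth A L.Ring := .comp A P.Ring L.Ring
  have : Module.Flat P.Ring L.Ring := Module.Flat.trans P.Ring S' L.Ring
  let φ : B ⊗[P.Ring] L.Ring →ₐ[B] T :=
    Algebra.TensorProduct.lift (Algebra.ofId B T) (fQ.restrictScalars P.Ring) fun _ _ => .all _ _
  let ρ : B' →ₐ[B] B ⊗[P.Ring] L.Ring :=
    MvPolynomial.aeval fun i => (1 : B) ⊗ₜ algebraMap S' L.Ring (MvPolynomial.X i)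
  let : Algebra B' (B ⊗[P.Ring] L.Ring) := ρ.toRingHom.toAlgebra
  let : Algebra S' (B ⊗[P.Ring] L.Ring) := (ρ.toRingHom.comp π).toAlgebra
  have : IsScalarTower S' B' (B ⊗[P.Ring] L.Ring) := .of_algebraMap_eq' rfl
  have : IsScalarTower B B' (B ⊗[P.Ring] L.Ring) := .of_algebraMap_eq' ρ.comp_algebraMap.symm
  have hρ : ρ.toRingHom.comp π = (Algebra.TensorProduct.includeRight :
      L.Ring →ₐ[P.Ring] B ⊗[P.Ring] L.Ring).toRingHom.comp (algebraMap S' L.Ring) := by
    refine MvPolynomial.ringHom_ext (fun c => ?_) (fun i => ?_)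
    · show ρ (π (MvPolynomial.C c)) = (1 : B) ⊗ₜ algebraMap S' L.Ring (MvPolynomial.C c)
      rw [MvPolynomial.map_C, ← MvPolynomial.algebraMap_eq, ρ.commutes, Algebra.TensorProduct.algebraMap_apply,
        Algebra.algebraMap_self, RingHom.id_apply]
      show algebraMap P.Ring B c ⊗ₜ (1 : L.Ring) = (1 : B) ⊗ₜ algebraMap P.Ring L.Ring c
      rw [Algebra.algebraMap_eq_smul_one, TensorProduct.smul_tmul, ← Algebra.algebraMap_eq_smul_one]
    · show ρ (π (MvPolynomial.X i)) = (1 : B) ⊗ₜ algebraMap S' L.Ring (MvPolynomial.X i)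
      rw [MvPolynomial.map_X, MvPolynomial.aeval_X]
  let incl : L.Ring →ₐ[S'] B ⊗[P.Ring] L.Ring :=
    { toRingHom := (Algebra.TensorProduct.includeRight :
        L.Ring →ₐ[P.Ring] B ⊗[P.Ring] L.Ring).toRingHom
      commutes' := fun c => (congrArg (fun g : S' →+* B ⊗[P.Ring] L.Ring => g c) hρ).symm }
  have hm : pp.HasMap (incl L.X) := by
    have h := L.hasMap_X.map incl
    refine ⟨(hF' (R := B ⊗[P.Ring] L.Ring) _).1.symm.trans h.1, ?_⟩
    have h2 : IsUnit (aeval (incl L.X) (G * derivative F)) := h.2
    rw [map_mul] at h2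
    exact (hF' (R := B ⊗[P.Ring] L.Ring) _).2 ▸ isUnit_of_mul_isUnit_left h2
  let φ' : T →ₐ[B'] B ⊗[P.Ring] L.Ring := (pp.lift _ hm).comp pp.equivRing.toAlgHom
  have hφx : φ' pp.x = incl L.X := by
    simp [φ', pp.equivRing_x]
  have h12 : (φ'.restrictScalars B).comp φ = AlgHom.id B _ := by
    apply Algebra.TensorProduct.ext'
    intro b z
    have key : ((φ'.restrictScalars S').comp fQ) = incl := by
      apply L.hom_ext
      simp [fQ, hφx]
    have hz : φ' (fQ z) = (1 : B) ⊗ₜ z :=
      congrArg (fun g : L.Ring →ₐ[S'] B ⊗[P.Ring] L.Ring => g z) key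
    have hb : φ' (algebraMap B T b) = b ⊗ₜ (1 : L.Ring) := by
      rw [IsScalarTower.algebraMap_apply B B' T, φ'.commutes, ← IsScalarTower.algebraMap_apply]
      rfl
    simp [φ, hb, hz, Algebra.TensorProduct.tmul_mul_tmul]
  have hX : ∀ i, φ ((1 : B) ⊗ₜ algebraMap S' L.Ring (MvPolynomial.X i)) =
      algebraMap B' T (MvPolynomial.X i) := fun i => by
    simp only [φ, Algebra.TensorProduct.lift_tmul, map_one, one_mul, AlgHom.restrictScalars_apply]
    rw [fQ.commutes]
    show algebraMap B' T (π (MvPolynomial.X i)) = _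
    rw [MvPolynomial.map_X]
  have hφc : φ.comp ρ = IsScalarTower.toAlgHom B B' T := by
    apply MvPolynomial.algHom_ext
    intro i
    simp only [AlgHom.comp_apply, ρ, MvPolynomial.aeval_X, IsScalarTower.coe_toAlgHom']
    exact hX i
  let φb : B ⊗[P.Ring] L.Ring →ₐ[B'] T :=
    { toRingHom := φ.toRingHom
      commutes' := fun c => congrArg (fun g : B' →ₐ[B] T => g c) hφc }
  have h21 : φb.comp φ' = AlgHom.id B' T := pp.hom_ext (by
    simp only [AlgHom.comp_apply, hφx, AlgHom.id_apply]
    show φ ((1 : B) ⊗ₜ L.X) = pp.x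
    simp [φ, fQ])
  let e : B ⊗[P.Ring] L.Ring ≃ₐ[B] T := AlgEquiv.ofAlgHom φ (φ'.restrictScalars B)
    (AlgHom.ext fun t => congrArg (fun g : T →ₐ[B'] T => g t) h21) h12
  exact subsingleton_tensor_h1_of_lift A B T L.Ring e

set_option maxHeartbeats 800000 in
-- large tensor product types
/-- Smoothness, along smooth surjections. -/
theorem smooth_of_smooth [Algebra.Smooth B C] [Module.FaithfullyFlat B C] [Algebra.Smooth A C] :
    Algebra.Smooth A B := by
  have : Algebra.FinitePresentation A B := finitePresentation_of_smooth A B C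
  refine ⟨?_, this⟩
  rw [Algebra.formallySmooth_iff]
  constructor
  · have hinj : Function.Injective (KaehlerDifferential.mapBaseChange A B C) := by
      rw [injective_iff_map_eq_zero]
      intro x hx
      obtain ⟨y, rfl⟩ := (Algebra.H1Cotangent.exact_δ_mapBaseChange A B C x).mp hx
      rw [Subsingleton.elim y 0, map_zero]
    obtain ⟨l, hl⟩ := Module.projective_lifting_property (KaehlerDifferential.map A B C C) LinearMap.id
      (KaehlerDifferential.map_surjective A B C)
    have hex := KaehlerDifferential.exact_mapBaseChange_map A B C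
    obtain ⟨r, hr⟩ := (((hex.split_tfae hinj (KaehlerDifferential.map_surjective A B C)).out 0 1 :) :
      (∃ l, KaehlerDifferential.map A B C C ∘ₗ l = LinearMap.id) ↔
        ∃ r, r ∘ₗ KaehlerDifferential.mapBaseChange A B C = LinearMap.id).1 ⟨l, hl⟩
    have : Module.Projective C (C ⊗[B] Ω[B⁄A]) := .of_split _ r hr
    have : Module.Flat B Ω[B⁄A] := Module.Flat.of_flat_tensorProduct _ _ C
    exact Module.Flat.projective_of_finitePresentation
  · have hmax : Subsingleton (C ⊗[B] Algebra.H1Cotangent A B) := by
      refine ⟨fun a b => sub_eq_zero.1 ?_⟩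
      refine Module.eq_zero_of_localization_maximal (R := C)
        (fun P _ => LocalizedModule P.primeCompl (C ⊗[B] Algebra.H1Cotangent A B))
        (fun P _ => LocalizedModule.mkLinearMap P.primeCompl _) _ fun P hP => ?_
      obtain ⟨c, hc, n, alg, htow, ⟨⟨pp⟩⟩⟩ := Algebra.IsSmoothAt.exists_isStandardEtale_mvPolynomial (R := B) (p := P)
      let T := Localization.Away c
      have : Algebra.Etale C T := .of_isLocalizationAway c
      have : Algebra.FormallySmooth A T := .comp A C T
      have : Module.Flat B T := Module.Flat.trans B C T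
      have hT := subsingleton_tensor_h1Cotangent A B n T pp
      have hT' : Subsingleton (LocalizedModule (.powers c) (C ⊗[B] Algebra.H1Cotangent A B)) :=
        ((LocalizedModule.equivTensorProduct (.powers c) (C ⊗[B] Algebra.H1Cotangent A B)).toEquiv.trans
          (AlgebraTensorModule.cancelBaseChange B C T T (Algebra.H1Cotangent A B)).toEquiv).subsingleton
      obtain ⟨_, ⟨k, rfl⟩, hr⟩ := LocalizedModule.subsingleton_iff.1 hT' (a - b)
      rw [LocalizedModule.mkLinearMap_apply, ← LocalizedModule.zero_mk (1 : P.primeCompl),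
        LocalizedModule.mk_eq]
      exact ⟨⟨c ^ k, fun h => hc (hP.isPrime.mem_of_pow_mem k h)⟩, by simpa [Submonoid.smul_def] using hr⟩
    exact Module.FaithfullyFlat.lTensor_reflects_triviality B C _

/-- Etaleness, along etale surjections. -/
theorem etale_of_etale [Algebra.Etale B C] [Module.FaithfullyFlat B C] [Algebra.Etale A C] :
    Algebra.Etale A B := by
  have := finitePresentation_of_smooth A B C
  have := flat_of_faithfullyFlat A B C
  have := formallyUnramified_of_formallyEtale A B C
  exact Algebra.Etale.of_formallyUnramified_of_flat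

end Groth.Agent.SourceDescent
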