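import Groth.Agent.SourceDescent.Reduce
import Groth.Agent.SourceDescent.Smooth
import Mathlib.AlgebraicGeometry.Morphisms.Flat
import Mathlib.AlgebraicGeometry.Morphisms.QuasiFinite
import Mathlib.AlgebraicGeometry.Morphisms.FormallyUnramified

/-!
Properties of morphisms that descend along flat / smooth / etale surjections of the source.
-/

set_option autoImplicit false
set_option backward.isDefEq.respectTransparency.types false

universe u

open CategoryTheory CategoryTheory.Limits AlgebraicGeometry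

namespace Groth.Agent.SourceDescent

variable {X Y Z : Scheme.{u}} (f : X ⟶ Y) (g : Y ⟶ Z)

theorem faithfullyFlat_of_spec {B C : CommRingCat.{u}} (ψ : B ⟶ C) [Flat (Spec.map ψ)]
    [Surjective (Spec.map ψ)] : ψ.hom.FaithfullyFlat :=
  (flat_and_surjective_SpecMap_iff ψ).1 ⟨inferInstance, inferInstance⟩

theorem flat_of_comp [Flat f] [Surjective f] [Flat (f ≫ g)] : Flat g := by
  refine Flat.of_stalkMap g fun y => ?_
  obtain ⟨x, rfl⟩ := f.surjective y
  have h : ((f ≫ g).stalkMap x).hom.Flat := Flat.stalkMap (f ≫ g) x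
  rw [Scheme.Hom.stalkMap_comp] at h
  have h2 : RingHom.Flat ((f.stalkMap x).hom.comp (g.stalkMap (f x)).hom) := h
  have hf := Flat.stalkMap f x
  algebraize [(g.stalkMap (f x)).hom, (f.stalkMap x).hom, (f.stalkMap x).hom.comp (g.stalkMap (f x)).hom]
  have : IsLocalHom (algebraMap (Y.presheaf.stalk (f x)) (X.presheaf.stalk x)) := f.toLRSHom.prop x
  have : Module.FaithfullyFlat (Y.presheaf.stalk (f x)) (X.presheaf.stalk x) :=
    .of_flat_of_isLocalHom
  exact flat_of_faithfullyFlat (Z.presheaf.stalk (g (f x))) (Y.presheaf.stalk (f x)) (X.presheaf.stalk x)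

theorem isOpenMap_of_smooth ⦃A B : Scheme.{u}⦄ (k : A ⟶ B) (hk : Smooth k) : IsOpenMap k :=
  k.isOpenMap

theorem isOpenMap_of_etale ⦃A B : Scheme.{u}⦄ (k : A ⟶ B) (hk : Etale k) : IsOpenMap k :=
  k.isOpenMap

theorem locallyOfFiniteType_of_comp [Smooth f] [Surjective f] [LocallyOfFiniteType (f ≫ g)] :
    LocallyOfFiniteType g := by
  refine of_comp_surjective (P := @LocallyOfFiniteType) (M := @Smooth) isOpenMap_of_smooth
    (fun A B C φ ψ hM hs hQ => ?_) f g ‹_› ‹_›
  have : Smooth (Spec.map ψ) := hM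
  have hψ : ψ.hom.Smooth := (HasRingHomProperty.Spec_iff (P := @Smooth)).1 hM
  have hff := faithfullyFlat_of_spec ψ
  algebraize [φ.hom, ψ.hom, ψ.hom.comp φ.hom]
  have : Algebra.FiniteType A C := hQ
  exact finiteType_of_smooth A B C

theorem locallyOfFinitePresentation_of_comp [Smooth f] [Surjective f] [LocallyOfFinitePresentation (f ≫ g)] :
    LocallyOfFinitePresentation g := by
  refine of_comp_surjective (P := @LocallyOfFinitePresentation) (M := @Smooth) isOpenMap_of_smooth
    (fun A B C φ ψ hM hs hQ => ?_) f g ‹_› ‹_›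
  have : Smooth (Spec.map ψ) := hM
  have hψ : ψ.hom.Smooth := (HasRingHomProperty.Spec_iff (P := @Smooth)).1 hM
  have hff := faithfullyFlat_of_spec ψ
  algebraize [φ.hom, ψ.hom, ψ.hom.comp φ.hom]
  have : Algebra.FinitePresentation A C := hQ
  exact finitePresentation_of_smooth A B C

theorem smooth_of_comp [Smooth f] [Surjective f] [Smooth (f ≫ g)] : Smooth g := by
  refine of_comp_surjective (P := @Smooth) (M := @Smooth) isOpenMap_of_smooth
    (fun A B C φ ψ hM hs hQ => ?_) f g ‹_› ‹_›
  have : Smooth (Spec.map ψ) := hM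
  have hψ : ψ.hom.Smooth := (HasRingHomProperty.Spec_iff (P := @Smooth)).1 hM
  have hff := faithfullyFlat_of_spec ψ
  algebraize [φ.hom, ψ.hom, ψ.hom.comp φ.hom]
  have : Algebra.Smooth A C := hQ
  exact smooth_of_smooth A B C

theorem etale_of_comp [Etale f] [Surjective f] [Etale (f ≫ g)] : Etale g := by
  refine of_comp_surjective (P := @Etale) (M := @Etale) isOpenMap_of_etale
    (fun A B C φ ψ hM hs hQ => ?_) f g ‹_› ‹_›
  have : Etale (Spec.map ψ) := hM
  have hψ : ψ.hom.Etale := (HasRingHomProperty.Spec_iff (P := @Etale)).1 hM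
  have hff := faithfullyFlat_of_spec ψ
  algebraize [φ.hom, ψ.hom, ψ.hom.comp φ.hom]
  have : Algebra.Etale A C := hQ
  exact etale_of_etale A B C

theorem formallyUnramified_of_comp [Etale f] [Surjective f] [FormallyUnramified (f ≫ g)] :
    FormallyUnramified g := by
  refine of_comp_surjective (P := @FormallyUnramified) (M := @Etale) isOpenMap_of_etale
    (fun A B C φ ψ hM hs hQ => ?_) f g ‹_› ‹_›
  have : Etale (Spec.map ψ) := hM
  have hψ : ψ.hom.Etale := (HasRingHomProperty.Spec_iff (P := @Etale)).1 hM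
  have hff := faithfullyFlat_of_spec ψ
  algebraize [φ.hom, ψ.hom, ψ.hom.comp φ.hom]
  have : Algebra.FormallyUnramified A C := hQ
  exact formallyUnramified_of_formallyEtale A B C

theorem locallyQuasiFinite_of_comp [Smooth f] [Surjective f] [LocallyQuasiFinite (f ≫ g)] :
    LocallyQuasiFinite g := by
  refine of_comp_surjective (P := @LocallyQuasiFinite) (M := @Smooth) isOpenMap_of_smooth
    (fun A B C φ ψ hM hs hQ => ?_) f g ‹_› ‹_›
  have : Smooth (Spec.map ψ) := hM
  have hff := faithfullyFlat_of_spec ψ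
  algebraize [φ.hom, ψ.hom, ψ.hom.comp φ.hom]
  have : Algebra.QuasiFinite A C := hQ
  exact quasiFinite_of_faithfullyFlat A B C

end Groth.Agent.SourceDescent

namespace Groth.Agent.SourceDescent

variable {X Y Z : Scheme.{u}}

/-- Flatness can be checked after a map whose composite with a flat surjection exists. -/
theorem flat_of_comp_refined {Y' : Scheme.{u}} (f : X ⟶ Y) (q : Y ⟶ Z) (g : Y' ⟶ Y) [Flat g] [Surjective g]
    (l : Y' ⟶ X) (hl : l ≫ f = g) [Flat (f ≫ q)] : Flat q := by
  subst hl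
  refine Flat.of_stalkMap q fun y => ?_
  obtain ⟨y', rfl⟩ := (l ≫ f).surjective y
  have h : ((f ≫ q).stalkMap (l y')).hom.Flat := Flat.stalkMap (f ≫ q) (l y')
  rw [Scheme.Hom.stalkMap_comp] at h
  have h2 : RingHom.Flat ((f.stalkMap (l y')).hom.comp (q.stalkMap (f (l y'))).hom) := h
  have hg := Flat.stalkMap (l ≫ f) y'
  rw [Scheme.Hom.stalkMap_comp] at hg
  have hg2 : RingHom.Flat ((l.stalkMap y').hom.comp (f.stalkMap (l y')).hom) := hg
  algebraize [(q.stalkMap (f (l y'))).hom, (f.stalkMap (l y')).hom, (l.stalkMap y').hom,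
    (f.stalkMap (l y')).hom.comp (q.stalkMap (f (l y'))).hom,
    (l.stalkMap y').hom.comp (f.stalkMap (l y')).hom]
  have : IsLocalHom (algebraMap (Y.presheaf.stalk (f (l y'))) (Y'.presheaf.stalk y')) :=
    @RingHom.isLocalHom_comp _ _ _ _ _ _ (l.stalkMap y').hom (f.stalkMap (l y')).hom
      (l.toLRSHom.prop y') (f.toLRSHom.prop (l y'))
  have : Module.FaithfullyFlat (Y.presheaf.stalk (f (l y'))) (Y'.presheaf.stalk y') :=
    .of_flat_of_isLocalHom
  exact flat_of_universallyInjective (Z.presheaf.stalk (q (f (l y')))) (Y.presheaf.stalk (f (l y')))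
    (X.presheaf.stalk (l y')) (Y'.presheaf.stalk y')

/-- A morphism is a section of an etale morphism followed by a base change. -/
theorem of_comp_etale {P : MorphismProperty Scheme.{u}} [P.IsStableUnderBaseChange] [P.IsStableUnderComposition]
    (hP : ∀ ⦃A B : Scheme.{u}⦄ (k : A ⟶ B), Etale k → P k) (f : X ⟶ Y) (g : Y ⟶ Z) [Etale g]
    (h : P (f ≫ g)) : P f := by
  let l := pullback.lift (f := f ≫ g) (g := g) (𝟙 X) f (by simp)
  have e : l ≫ pullback.fst (f ≫ g) g = 𝟙 X := pullback.lift_fst _ _ _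
  have : Etale (l ≫ pullback.fst (f ≫ g) g) := by rw [e]; infer_instance
  have : Etale l := MorphismProperty.of_postcomp (W := @Etale) (W' := @Etale) l
    (pullback.fst (f ≫ g) g) inferInstance this
  rw [← pullback.lift_snd (f := f ≫ g) (g := g) (𝟙 X) f (by simp)]
  exact P.comp_mem _ _ (hP _ this) (P.pullback_snd _ _ h)

/-- Descent along a jointly surjective family of the source, from descent along one surjection. -/
theorem isLocalAtSource_of {P M : MorphismProperty Scheme.{u}}
    [IsZariskiLocalAtSource P] [IsZariskiLocalAtSource M]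
    (hcomp : ∀ ⦃A B C : Scheme.{u}⦄ (k : A ⟶ B) (m : B ⟶ C), M k → P m → P (k ≫ m))
    (hdesc : ∀ ⦃A B C : Scheme.{u}⦄ (k : A ⟶ B) (m : B ⟶ C), M k → Surjective k → P (k ≫ m) → P m) :
    P.IsLocalAtSource (Scheme.precoverage M) where
  comp hR _ g hg hf := hcomp g _ (hR.2 hg) hf
  of_forall_comp {X Y} f R hR H := by
    obtain ⟨ι, U, a, rfl⟩ := R.exists_eq_ofArrows
    rw [Scheme.ofArrows_mem_precoverage_iff] at hR
    choose i hi using hR.1
    let p : ∐ (fun x : X => U (i x)) ⟶ X := Sigma.desc fun x => a (i x)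
    have key : ∀ x, Sigma.ι (fun x : X => U (i x)) x ≫ p = a (i x) := fun x => Sigma.ι_desc _ _
    refine hdesc p f ?_ ⟨fun x => ?_⟩ ?_
    · rw [IsZariskiLocalAtSource.iff_of_openCover (P := M) (sigmaOpenCover _)]
      intro x
      show M (Sigma.ι (fun x : X => U (i x)) x ≫ p)
      rw [key]
      exact hR.2 _
    · obtain ⟨t, ht⟩ := hi x
      exact ⟨Sigma.ι (fun x : X => U (i x)) x t, by rw [← Scheme.Hom.comp_apply, key]; exact ht⟩
    · rw [IsZariskiLocalAtSource.iff_of_openCover (P := P) (sigmaOpenCover _)]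
      intro x
      show P (Sigma.ι (fun x : X => U (i x)) x ≫ p ≫ f)
      rw [← Category.assoc, key]
      exact H ⟨i x⟩

end Groth.Agent.SourceDescent
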