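import Mathlib.RingTheory.Smooth.NoetherianDescent
import Mathlib.RingTheory.Smooth.Fiber
import Mathlib.RingTheory.Etale.Kaehler
import Mathlib.RingTheory.Flat.FaithfullyFlat.Algebra
import Mathlib.RingTheory.Finiteness.Descent
import Mathlib.RingTheory.Spectrum.Prime.Chevalley
import Mathlib.RingTheory.QuasiFinite.Basic
import Mathlib.RingTheory.Smooth.Flat

/-!
Properties of `A → B` that can be checked after a faithfully flat `B → C`.
-/

set_option autoImplicit false

universe u

open TensorProduct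

namespace Groth.Agent.SourceDescent

variable (A B C : Type u) [CommRing A] [CommRing B] [CommRing C] [Algebra A B] [Algebra B C]
  [Algebra A C] [IsScalarTower A B C]

/-- Flatness. -/
theorem flat_of_faithfullyFlat [Module.FaithfullyFlat B C] [Module.Flat A C] : Module.Flat A B := by
  rw [Module.Flat.iff_lTensor_preserves_injective_linearMap]
  intro N P _ _ _ _ f hf
  let g : B ⊗[A] N →ₗ[B] B ⊗[A] P := f.baseChange B
  show Function.Injective g
  rw [← Module.FaithfullyFlat.lTensor_injective_iff_injective B C]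
  have hC : Function.Injective (LinearMap.lTensor C f) :=
    Module.Flat.lTensor_preserves_injective_linearMap f hf
  have : (LinearMap.lTensor C g).restrictScalars A =
      ((AlgebraTensorModule.cancelBaseChange A B C C P).symm.restrictScalars A).toLinearMap ∘ₗ
        LinearMap.lTensor C f ∘ₗ
        ((AlgebraTensorModule.cancelBaseChange A B C C N).restrictScalars A).toLinearMap := by
    apply LinearMap.ext
    intro z
    induction z with
    | zero => simp
    | add x y hx hy => simp only [map_add, hx, hy]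
    | tmul c x =>
      induction x with
      | zero => simp
      | add x y hx hy => simp only [tmul_add, map_add, hx, hy]
      | tmul b n =>
        simp only [g, LinearMap.coe_comp, LinearEquiv.coe_coe, Function.comp_apply,
          LinearMap.restrictScalars_apply, LinearEquiv.restrictScalars_apply, LinearMap.lTensor_tmul,
          LinearMap.baseChange_tmul, AlgebraTensorModule.cancelBaseChange_tmul]
        rw [AlgebraTensorModule.cancelBaseChange_symm_tmul,
          TensorProduct.smul_tmul, TensorProduct.smul_tmul', smul_eq_mul, mul_one]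
  show Function.Injective ((LinearMap.lTensor C g).restrictScalars A)
  rw [this]
  simpa using hC

/-- The image of a smooth morphism is open; base change lands inside it after adjoining finitely many elements. -/
theorem exists_faithfullyFlat_model {B₀ C₀ : Type u} [CommRing B₀] [CommRing C₀] [Algebra B₀ B]
    [Algebra B₀ C₀] [Algebra.Smooth B₀ C₀]
    (h : ∀ p : PrimeSpectrum B, PrimeSpectrum.comap (algebraMap B₀ B) p ∈
      Set.range (PrimeSpectrum.comap (algebraMap B₀ C₀))) :
    ∃ s : Finset B, ∀ (B₁ : Type u) [CommRing B₁] [Algebra B₀ B₁] [Algebra B₁ B] [IsScalarTower B₀ B₁ B],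
      ((s : Set B) ⊆ Set.range (algebraMap B₁ B)) → Function.Injective (algebraMap B₁ B) →
        Module.FaithfullyFlat B₁ (B₁ ⊗[B₀] C₀) := by
  obtain ⟨K, hK⟩ := (PrimeSpectrum.isClosed_iff_zeroLocus_ideal _).1
    (PrimeSpectrum.isOpenMap_comap_of_hasGoingDown_of_finitePresentation
      (R := B₀) (S := C₀)).isOpen_range.isClosed_compl
  have htop : K.map (algebraMap B₀ B) = ⊤ := by
    rw [← PrimeSpectrum.zeroLocus_empty_iff_eq_top, Set.eq_empty_iff_forall_notMem]
    intro p hp
    have hm : PrimeSpectrum.comap (algebraMap B₀ B) p ∈ PrimeSpectrum.zeroLocus (K : Set B₀) := by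
      rw [PrimeSpectrum.mem_zeroLocus] at hp ⊢
      exact fun x hx => hp (Ideal.mem_map_of_mem _ hx)
    rw [← hK] at hm
    exact hm (h p)
  have h1 : (1 : B) ∈ Ideal.map (algebraMap B₀ B) K := htop ▸ Submodule.mem_top
  obtain ⟨l, hlK, hl⟩ := (Finsupp.mem_span_image_iff_linearCombination B).1 h1
  classical
  refine ⟨l.support.image l, fun B₁ _ _ _ _ hs hinj => ?_⟩
  have htop₁ : K.map (algebraMap B₀ B₁) = ⊤ := by
    rw [Ideal.eq_top_iff_one]
    have hb : ∀ x ∈ l.support, ∃ b : B₁, algebraMap B₁ B b = l x := fun x hx =>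
      hs (Finset.coe_image (f := l) (s := l.support) ▸ ⟨x, hx, rfl⟩)
    choose b hb using hb
    have : ∑ x ∈ l.support.attach, b x x.2 * algebraMap B₀ B₁ x = 1 := by
      apply hinj
      rw [map_sum, map_one, ← hl, Finsupp.linearCombination_apply, Finsupp.sum,
        ← Finset.sum_attach l.support]
      exact Finset.sum_congr rfl fun x _ => by
        rw [map_mul, hb, ← IsScalarTower.algebraMap_apply, smul_eq_mul]
    rw [← this]
    refine Ideal.sum_mem _ fun x _ => Ideal.mul_mem_left _ _ (Ideal.mem_map_of_mem _ ?_)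
    exact hlK x.2
  refine Module.FaithfullyFlat.of_comap_surjective fun p => ?_
  have hp : PrimeSpectrum.comap (algebraMap B₀ B₁) p ∈
      Set.range (PrimeSpectrum.comap (algebraMap B₀ C₀)) := by
    by_contra hn
    have hn' : PrimeSpectrum.comap (algebraMap B₀ B₁) p ∈ PrimeSpectrum.zeroLocus (K : Set B₀) := hK ▸ hn
    rw [PrimeSpectrum.mem_zeroLocus] at hn'
    exact p.isPrime.ne_top (top_le_iff.1 (htop₁.symm.le.trans (Ideal.map_le_iff_le_comap.2 hn')))
  obtain ⟨c, hc⟩ := hp
  let p₀ := PrimeSpectrum.comap (algebraMap B₀ B₁) p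
  have : Nontrivial (p₀.asIdeal.Fiber C₀) :=
    (PrimeSpectrum.nonempty_iff_nontrivial).1 ⟨PrimeSpectrum.preimageEquivFiber B₀ C₀ p₀ ⟨c, hc⟩⟩
  let : Algebra p₀.asIdeal.ResidueField p.asIdeal.ResidueField :=
    (Ideal.ResidueField.mapₐ p₀.asIdeal p.asIdeal (Algebra.ofId B₀ B₁) rfl).toRingHom.toAlgebra
  have : IsScalarTower B₀ p₀.asIdeal.ResidueField p.asIdeal.ResidueField :=
    .of_algebraMap_eq' (Ideal.ResidueField.mapₐ p₀.asIdeal p.asIdeal (Algebra.ofId B₀ B₁) rfl).comp_algebraMap.symm
  have h2 : Nontrivial (p.asIdeal.ResidueField ⊗[p₀.asIdeal.ResidueField] p₀.asIdeal.Fiber C₀) :=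
    (Module.FaithfullyFlat.nontrivial_tensorProduct_iff_right p₀.asIdeal.ResidueField
      p.asIdeal.ResidueField).2 inferInstance
  have h3 : Nontrivial (p.asIdeal.Fiber (B₁ ⊗[B₀] C₀)) :=
    @Equiv.nontrivial _ _ ((AlgebraTensorModule.cancelBaseChange B₀ p₀.asIdeal.ResidueField p.asIdeal.ResidueField
      p.asIdeal.ResidueField C₀).toEquiv.trans
      (AlgebraTensorModule.cancelBaseChange B₀ B₁ p.asIdeal.ResidueField
        p.asIdeal.ResidueField C₀).toEquiv.symm).symm h2
  obtain ⟨q⟩ := (PrimeSpectrum.nonempty_iff_nontrivial (R := p.asIdeal.Fiber (B₁ ⊗[B₀] C₀))).2 h3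
  exact ⟨((PrimeSpectrum.preimageEquivFiber B₁ (B₁ ⊗[B₀] C₀) p).symm q).1,
    ((PrimeSpectrum.preimageEquivFiber B₁ (B₁ ⊗[B₀] C₀) p).symm q).2⟩

/-- Finite type, along smooth surjections. -/
theorem finiteType_of_smooth [Algebra.Smooth B C] [Module.FaithfullyFlat B C] [Algebra.FiniteType A C] :
    Algebra.FiniteType A B := by
  obtain ⟨B₀, C₀, _, _, hB₀, _, ⟨e⟩⟩ := Algebra.Smooth.exists_subalgebra_fg A B C
  obtain ⟨s, hs⟩ := exists_faithfullyFlat_model B (B₀ := B₀) (C₀ := C₀) fun p => by
    obtain ⟨c, rfl⟩ := PrimeSpectrum.comap_surjective_of_faithfullyFlat (B := C) p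
    refine ⟨PrimeSpectrum.comap ((e.symm.toAlgHom.restrictScalars B₀).comp
      Algebra.TensorProduct.includeRight).toRingHom c, ?_⟩
    rw [← PrimeSpectrum.comap_comp_apply, ← PrimeSpectrum.comap_comp_apply]
    exact congrArg (fun φ => PrimeSpectrum.comap φ c)
      (((e.symm.toAlgHom.restrictScalars B₀).comp Algebra.TensorProduct.includeRight).comp_algebraMap.trans
        (IsScalarTower.algebraMap_eq B₀ B C))
  obtain ⟨g, hg⟩ := Algebra.FiniteType.out (R := A) (A := C)
  choose t ht using fun x : C => TensorProduct.exists_finset (e x)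
  classical
  let s' : Finset B := s ∪ g.biUnion fun x => (t x).image Prod.fst
  let B₁ : Subalgebra A B := B₀ ⊔ Algebra.adjoin A (s' : Set B)
  let : Algebra B₀ B₁ := (Subalgebra.inclusion (le_sup_left : B₀ ≤ B₁)).toRingHom.toAlgebra
  have : IsScalarTower B₀ B₁ B := .of_algebraMap_eq fun _ => rfl
  have : Module.FaithfullyFlat B₁ (B₁ ⊗[B₀] C₀) := hs B₁ (fun x hx =>
    ⟨⟨x, le_sup_right (a := B₀) (Algebra.subset_adjoin (Finset.mem_union_left _ hx))⟩, rfl⟩)
    Subtype.val_injective
  have hfg : B₁.FG := hB₀.sup (Subalgebra.fg_adjoin_finset _)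
  have : Algebra.FiniteType A B₁ := (Subalgebra.fg_iff_finiteType B₁).1 hfg
  let E : B ⊗[B₁] (B₁ ⊗[B₀] C₀) ≃ₐ[B] C :=
    (Algebra.TensorProduct.cancelBaseChange B₀ B₁ B B C₀).trans e.symm
  let q : B₁ ⊗[B₀] C₀ →ₐ[B₁] B ⊗[B₁] (B₁ ⊗[B₀] C₀) := Algebra.TensorProduct.includeRight
  have hq : Function.Surjective q := by
    suffices hsur : ∀ x : C, ∃ y, E (q y) = x from fun z => by
      obtain ⟨y, hy⟩ := hsur (E z)
      exact ⟨y, E.injective hy⟩
    let R : Subalgebra A C :=
      (((E.toAlgHom.restrictScalars B₁).comp q).restrictScalars A).range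
    suffices R = ⊤ from fun x => by
      obtain ⟨y, hy⟩ := (this ▸ Algebra.mem_top : x ∈ R)
      exact ⟨y, hy⟩
    rw [_root_.eq_top_iff, ← hg, Algebra.adjoin_le_iff]
    intro x hx
    have hmem : ∀ i ∈ t x, ∃ y, E (q y) = e.symm (i.1 ⊗ₜ i.2) := fun i hi => by
      let b : B₁ := ⟨i.1, le_sup_right (a := B₀) (Algebra.subset_adjoin (Finset.mem_union_right _
        (Finset.mem_biUnion.2 ⟨x, hx, Finset.mem_image_of_mem _ hi⟩)))⟩
      refine ⟨b ⊗ₜ i.2, ?_⟩
      show e.symm (Algebra.TensorProduct.cancelBaseChange B₀ B₁ B B C₀ ((1 : B) ⊗ₜ (b ⊗ₜ i.2))) = _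
      congr 1
      rw [Algebra.TensorProduct.cancelBaseChange_tmul, Algebra.smul_def, mul_one]
      rfl
    choose y hy using hmem
    refine ⟨∑ i ∈ (t x).attach, y i.1 i.2, ?_⟩
    show E (q (∑ i ∈ (t x).attach, y i.1 i.2)) = x
    rw [map_sum, map_sum]
    simp only [hy]
    rw [← map_sum, Finset.sum_attach (t x) (fun i : B × C₀ => i.1 ⊗ₜ[B₀] i.2), ← ht, e.symm_apply_apply]
  let ι : B₁ →ₗ[B₁] B := Algebra.linearMap B₁ B
  have hι : Function.Surjective (ι.lTensor (B₁ ⊗[B₀] C₀)) := fun z => by
    obtain ⟨y, hy⟩ := hq (TensorProduct.comm B₁ (B₁ ⊗[B₀] C₀) B z)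
    refine ⟨y ⊗ₜ 1, (TensorProduct.comm B₁ (B₁ ⊗[B₀] C₀) B).injective ?_⟩
    rw [← hy]
    simp [ι]
    rfl
  rw [Module.FaithfullyFlat.lTensor_surjective_iff_surjective] at hι
  exact Algebra.FiniteType.of_surjective (IsScalarTower.toAlgHom A B₁ B) hι

/-- Formally unramified. -/
theorem formallyUnramified_of_formallyEtale [Algebra.FormallyEtale B C] [Module.FaithfullyFlat B C]
    [Algebra.FormallyUnramified A C] : Algebra.FormallyUnramified A B := by
  constructor
  have : Subsingleton (C ⊗[B] Ω[B⁄A]) :=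
    (KaehlerDifferential.tensorKaehlerEquivOfFormallyEtale A B C).subsingleton
  exact Module.FaithfullyFlat.lTensor_reflects_triviality B C _

/-- Quasi-finite. -/
theorem quasiFinite_of_faithfullyFlat [Module.FaithfullyFlat B C] [Algebra.QuasiFinite A C] :
    Algebra.QuasiFinite A B := by
  refine ⟨fun P _ => ?_⟩
  let i : P.Fiber B →ₗ[P.ResidueField] P.Fiber C :=
    (IsScalarTower.toAlgHom A B C).toLinearMap.baseChange P.ResidueField
  refine Module.Finite.of_injective i ?_
  let j := Module.FaithfullyFlat.tensorProduct_mk_injective (A := B) (B := C) (B ⊗[A] P.ResidueField)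
  let c := (AlgebraTensorModule.cancelBaseChange A B C C P.ResidueField).toEquiv
  have : ⇑i = (TensorProduct.comm A C P.ResidueField) ∘ c ∘
      (fun x => (1 : C) ⊗ₜ[B] x) ∘ (TensorProduct.comm A P.ResidueField B) := by
    funext x
    induction x using TensorProduct.induction_on with
    | zero => simp [c]
    | add x y hx hy => simp_all [tmul_add, c]
    | tmul k b => simp [i, c, Algebra.algebraMap_eq_smul_one]
  rw [this]
  exact (LinearEquiv.injective _).comp (c.injective.comp (j.comp (LinearEquiv.injective _)))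

/-- Flatness can be checked in an intermediate algebra inside a faithfully flat one. -/
theorem flat_of_universallyInjective (D : Type u) [CommRing D] [Algebra C D] [Algebra B D]
    [IsScalarTower B C D] [Module.FaithfullyFlat B D] [Module.Flat A C] : Module.Flat A B := by
  rw [Module.Flat.iff_lTensor_preserves_injective_linearMap]
  intro N P _ _ _ _ f hf
  let i : B →ₗ[A] C := (IsScalarTower.toAlgHom A B C).toLinearMap
  have hi : Function.Injective (i.rTensor N) := by
    intro x y h
    have hj := Module.FaithfullyFlat.tensorProduct_mk_injective (A := B) (B := D) (B ⊗[A] N)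
    apply hj
    let F : C ⊗[A] N → D ⊗[B] (B ⊗[A] N) := fun z =>
      ((IsScalarTower.toAlgHom B C D).toLinearMap.rTensor (B ⊗[A] N))
        ((AlgebraTensorModule.cancelBaseChange A B C C N).symm z)
    have key : ∀ z : B ⊗[A] N, F (i.rTensor N z) = (1 : D) ⊗ₜ[B] z := by
      intro z
      induction z with
      | zero => simp [F]
      | add x y hx hy => simp_all [F, tmul_add]
      | tmul b n =>
        simp only [F, i, LinearMap.rTensor_tmul, AlgHom.toLinearMap_apply, IsScalarTower.coe_toAlgHom',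
          AlgebraTensorModule.cancelBaseChange_symm_tmul]
        rw [← IsScalarTower.algebraMap_apply B C D, Algebra.algebraMap_eq_smul_one, TensorProduct.smul_tmul,
          TensorProduct.smul_tmul', smul_eq_mul, mul_one]
    show (1 : D) ⊗ₜ[B] x = (1 : D) ⊗ₜ[B] y
    rw [← key, ← key, h]
  have hC : Function.Injective (LinearMap.lTensor C f) :=
    Module.Flat.lTensor_preserves_injective_linearMap f hf
  have e : i.rTensor P ∘ₗ LinearMap.lTensor B f = LinearMap.lTensor C f ∘ₗ i.rTensor N := by
    simp [LinearMap.rTensor_comp_lTensor, LinearMap.lTensor_comp_rTensor]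
  refine Function.Injective.of_comp (f := i.rTensor P) ?_
  rw [← LinearMap.coe_comp, e, LinearMap.coe_comp]
  exact hC.comp hi

end Groth.Agent.SourceDescent
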