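import Mathlib.AlgebraicGeometry.Morphisms.Descent
import Mathlib.AlgebraicGeometry.Morphisms.Etale
import Mathlib.AlgebraicGeometry.Morphisms.Smooth
import Mathlib.AlgebraicGeometry.Morphisms.UniversallyOpen
import Mathlib.AlgebraicGeometry.Morphisms.FinitePresentation

/-!
Descent of ring-theoretic properties of morphisms along coverings of the source:
reduction to a statement about ring maps.
-/

set_option autoImplicit false
set_option backward.isDefEq.respectTransparency.types false

universe u

open CategoryTheory CategoryTheory.Limits AlgebraicGeometry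

namespace Groth.Agent.SourceDescent

/-- A property given by a ring property descends along surjective open `M`-morphisms of the source as soon as
it does so for affine schemes. -/
theorem of_comp_surjective {P M : MorphismProperty Scheme.{u}}
    {Q : ∀ {R S : Type u} [CommRing R] [CommRing S], (R →+* S) → Prop} [HasRingHomProperty P Q]
    [M.IsStableUnderBaseChange] [M.IsStableUnderComposition] [IsZariskiLocalAtSource M]
    (hopen : ∀ ⦃A B : Scheme.{u}⦄ (k : A ⟶ B), M k → IsOpenMap k)
    (H : ∀ ⦃A B C : CommRingCat.{u}⦄ (φ : A ⟶ B) (ψ : B ⟶ C), M (Spec.map ψ) →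
      Surjective (Spec.map ψ) → Q (φ ≫ ψ).hom → Q φ.hom)
    {X Y Z : Scheme.{u}} (f : X ⟶ Y) (g : Y ⟶ Z) (hf : M f) [Surjective f] (h : P (f ≫ g)) : P g := by
  wlog hZ : IsAffine Z generalizing X Y Z
  · rw [IsZariskiLocalAtTarget.iff_of_openCover (P := P) Z.affineCover]
    intro i
    let ι := Z.affineCover.f i
    have hs' : Surjective (pullback.snd f (pullback.fst g ι)) :=
      MorphismProperty.pullback_snd (P := @Surjective) _ _ ‹_›
    refine this (pullback.snd f (pullback.fst g ι)) (pullback.snd g ι)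
      (M.pullback_snd _ _ hf) ?_ inferInstance
    exact IsZariskiLocalAtTarget.of_isPullback
      ((IsPullback.of_hasPullback f (pullback.fst g ι)).paste_vert (IsPullback.of_hasPullback g ι)) h
  wlog hY : IsAffine Y generalizing X Y
  · rw [IsZariskiLocalAtSource.iff_of_openCover (P := P) Y.affineCover]
    intro i
    let ι := Y.affineCover.f i
    have hs' : Surjective (pullback.snd f ι) := MorphismProperty.pullback_snd (P := @Surjective) _ _ ‹_›
    refine this (pullback.snd f ι) (ι ≫ g) (M.pullback_snd _ _ hf) ?_ inferInstance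
    rw [← Category.assoc, ← pullback.condition, Category.assoc]
    exact IsZariskiLocalAtSource.comp h _
  wlog hX : IsAffine X generalizing X
  · obtain ⟨W : X.Opens, hW, e⟩ := (hopen f hf).exists_opens_image_eq_of_prespectralSpace
      f.continuous (U := Set.univ) (fun y _ => f.surjective y) isOpen_univ isCompact_univ
    have hWc : CompactSpace W := isCompact_iff_compactSpace.mp hW
    let 𝒰 := (W : Scheme.{u}).affineCover.finiteSubcover
    let p : ∐ (fun i : 𝒰.I₀ ↦ 𝒰.X i) ⟶ X := Sigma.desc (fun i ↦ 𝒰.f i ≫ W.ι)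
    have key : ∀ i, Sigma.ι (fun i ↦ 𝒰.X i) i ≫ p = 𝒰.f i ≫ W.ι := fun i => Sigma.ι_desc _ _
    have hp : M (p ≫ f) := by
      rw [IsZariskiLocalAtSource.iff_of_openCover (P := M) (sigmaOpenCover _)]
      intro i
      show M (Sigma.ι (fun i ↦ 𝒰.X i) i ≫ p ≫ f)
      rw [← Category.assoc, key, Category.assoc]
      exact IsZariskiLocalAtSource.comp (IsZariskiLocalAtSource.comp hf _) _
    have hp' : P (p ≫ f ≫ g) := by
      rw [IsZariskiLocalAtSource.iff_of_openCover (P := P) (sigmaOpenCover _)]
      intro i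
      show P (Sigma.ι (fun i ↦ 𝒰.X i) i ≫ p ≫ f ≫ g)
      rw [← Category.assoc, key, Category.assoc]
      exact IsZariskiLocalAtSource.comp (IsZariskiLocalAtSource.comp h _) _
    have hpf : Surjective (p ≫ f) := ⟨fun y => by
      obtain ⟨x, hx, rfl⟩ := e.ge (Set.mem_univ y)
      obtain ⟨i, a, ha⟩ := 𝒰.exists_eq ⟨x, hx⟩
      refine ⟨Sigma.ι (fun i ↦ 𝒰.X i) i a, ?_⟩
      rw [← Scheme.Hom.comp_apply, ← Category.assoc, key, Category.assoc]
      exact congrArg f (congrArg Subtype.val ha)⟩
    exact this (p ≫ f) hp (by rwa [Category.assoc]) inferInstance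
  let α : Y ⟶ Spec (Γ(Y, ⊤)) := Y.isoSpec.hom
  have : M.RespectsIso := MorphismProperty.IsStableUnderBaseChange.respectsIso
  obtain ⟨ψ, hψ⟩ := Spec.map_surjective (X.isoSpec.inv ≫ f ≫ Y.isoSpec.hom)
  obtain ⟨φ, hφ⟩ := Spec.map_surjective (Y.isoSpec.inv ≫ g ≫ Z.isoSpec.hom)
  have hM : M (Spec.map ψ) := by
    rw [hψ, M.cancel_left_of_respectsIso, M.cancel_right_of_respectsIso]; exact hf
  have hs : Surjective (Spec.map ψ) := by
    rw [hψ]; infer_instance
  have hQ : Q (φ ≫ ψ).hom := by
    rw [← HasRingHomProperty.Spec_iff (P := P), Spec.map_comp, hψ, hφ]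
    simp only [Category.assoc, Iso.hom_inv_id_assoc]
    rw [P.cancel_left_of_respectsIso, ← Category.assoc, P.cancel_right_of_respectsIso]
    exact h
  have := H φ ψ hM hs hQ
  rw [← HasRingHomProperty.Spec_iff (P := P), hφ, P.cancel_left_of_respectsIso,
    P.cancel_right_of_respectsIso] at this
  exact this

end Groth.Agent.SourceDescent
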